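import Groth.Agent.Deform.GenTrans.Spread
import Groth.Agent.Deform.InfNbhd.Subgroups
import Groth.Agent.TransLib.Universal
import Groth.Agent.Deform.Borel.Tori
import Groth.Agent.S4599

/-!
# Transporters, centralizers and normalizers over a non-empty open of an integral base (VI_B 6.9, 6.11)
-/

set_option autoImplicit false
set_option linter.style.haveILetI false
set_option backward.isDefEq.respectTransparency.types false

universe u

open CategoryTheory CategoryTheory.Limits MonoidalCategory CartesianMonoidalCategory MonObj GrpObj AlgebraicGeometry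

attribute [local instance] CategoryTheory.Hom.monoid CategoryTheory.Hom.group

namespace Groth.Agent.Deform.GenTrans

section universal

variable {S : Scheme.{u}} {G Y K : Over S} [GrpObj G] [LocallyOfFiniteType G.hom]

/-- The transporter of two morphisms from an essentially free scheme to a separated group. -/
theorem exists_transporter_pair [IsSeparated G.hom] [QuasiCompact Y.hom] (hY : SGA3x.IsEssentiallyFree Y.hom)
    (u v : Y ⟶ G) :
    ∃ (T : Over S) (t : T ⟶ G), IsClosedImmersion t.left ∧ LocallyOfFinitePresentation t.left ∧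
      ∀ (X : Over S) (g : X ⟶ G), (∃ z : X ⟶ T, z ≫ t = g) ↔
        ∀ (X' : Over S) (x : X' ⟶ X) (y : X' ⟶ Y), (x ≫ g) * (y ≫ u) * (x ≫ g)⁻¹ = y ≫ v := by
  let d : G ⟶ G ⊗ G := lift (𝟙 G) (𝟙 G)
  have hdd : d.left = pullback.diagonal G.hom := by
    apply pullback.hom_ext
    · rw [pullback.diagonal_fst]; exact congrArg CommaMorphism.left (lift_fst (𝟙 G) (𝟙 G))
    · rw [pullback.diagonal_snd]; exact congrArg CommaMorphism.left (lift_snd (𝟙 G) (𝟙 G))
  haveI : IsClosedImmersion d.left := by rw [hdd]; infer_instance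
  haveI : LocallyOfFinitePresentation d.left := by rw [hdd]; exact S4599.result G.hom
  let a : Y ⊗ G ⟶ G := snd Y G * (fst Y G ≫ u) * (snd Y G)⁻¹
  let b : Y ⊗ G ⟶ G := fst Y G ≫ v
  obtain ⟨T, t, ht, hfp, hT⟩ := TransLib.exists_closed_universal_essFree hY (lift a b) d
  refine ⟨T, t, ht, hfp ‹_› ‹_›, fun X g => (hT g).trans ?_⟩
  have hd : ∀ {Z : Over S} (p q : Z ⟶ G), (∃ l : Z ⟶ G, l ≫ d = lift p q) ↔ p = q := by
    intro Z p q
    refine ⟨fun ⟨l, hl⟩ => ?_, fun h => ⟨p, by simp [d, h, comp_lift]⟩⟩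
    have h1 := congrArg (· ≫ fst G G) hl
    have h2 := congrArg (· ≫ snd G G) hl
    simp only [d, Category.assoc, lift_fst, lift_snd, Category.comp_id] at h1 h2
    exact h1.symm.trans h2
  rw [comp_lift, hd]
  constructor
  · intro h X' x y
    have h' := congrArg (lift y x ≫ ·) h
    simpa [a, b, MonObj.comp_mul, GrpObj.comp_inv] using h'
  · intro h
    simp only [a, b, MonObj.comp_mul, GrpObj.comp_inv, whiskerLeft_snd, whiskerLeft_fst, whiskerLeft_fst_assoc]
    exact h (Y ⊗ X) (snd Y X) (fst Y X)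

/-- The transporter of an essentially free subscheme into a closed subscheme. -/
theorem exists_transporter_closed [QuasiCompact Y.hom] (hY : SGA3x.IsEssentiallyFree Y.hom)
    (i : Y ⟶ G) (j : K ⟶ G) [IsClosedImmersion j.left] [LocallyOfFinitePresentation j.left] :
    ∃ (T : Over S) (t : T ⟶ G), IsClosedImmersion t.left ∧ LocallyOfFinitePresentation t.left ∧
      ∀ (X : Over S) (g : X ⟶ G), (∃ z : X ⟶ T, z ≫ t = g) ↔
        ∀ (X' : Over S) (x : X' ⟶ X) (h : X' ⟶ Y), ∃ κ : X' ⟶ K, (x ≫ g) * (h ≫ i) * (x ≫ g)⁻¹ = κ ≫ j := by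
  let a : Y ⊗ G ⟶ G := snd Y G * (fst Y G ≫ i) * (snd Y G)⁻¹
  obtain ⟨T, t, ht, hfp, hT⟩ := TransLib.exists_closed_universal_essFree hY a j
  refine ⟨T, t, ht, hfp ‹_› ‹_›, fun X g => (hT g).trans ⟨?_, fun h => ?_⟩⟩
  · rintro ⟨l, hl⟩ X' x y
    refine ⟨lift y x ≫ l, ?_⟩
    rw [Category.assoc, hl]
    simp [a, MonObj.comp_mul, GrpObj.comp_inv]
  · obtain ⟨κ, hκ⟩ := h (Y ⊗ X) (snd Y X) (fst Y X)
    refine ⟨κ, ?_⟩
    simp only [a, MonObj.comp_mul, GrpObj.comp_inv, whiskerLeft_snd, whiskerLeft_fst, whiskerLeft_fst_assoc]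
    exact hκ.symm

variable [GrpObj Y] [IsSeparated G.hom] [QuasiCompact Y.hom]

/-- The centralizer of an essentially free subgroup of a separated group. -/
theorem exists_centralizer_essFree (hY : SGA3x.IsEssentiallyFree Y.hom) (i : Y ⟶ G) :
    ∃ (Z : Over S) (_ : GrpObj Z) (j : Z ⟶ G), Red.IsCentralizerOf i j ∧ IsClosedImmersion j.left ∧
      LocallyOfFinitePresentation j.left := by
  obtain ⟨Z, j, hjc, hjf, hT⟩ := exists_transporter_pair hY i i
  haveI : Mono j := (Over.forget _).mono_of_mono_map (inferInstanceAs (Mono j.left))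
  have key : ∀ (X : Over S) (g : X ⟶ G), (∃ z : X ⟶ Z, z ≫ j = g) ↔
      ∀ (X' : Over S) (x : X' ⟶ X) (h : X' ⟶ Y), (x ≫ g) * (h ≫ i) = (h ≫ i) * (x ≫ g) := fun X g =>
    (hT X g).trans (forall_congr' fun X' => forall_congr' fun x => forall_congr' fun h => mul_inv_eq_iff_eq_mul)
  obtain ⟨str, hmon⟩ := InfNbhd.exists_grpObj_of_key G j
    (fun {X} g => ∀ (X' : Over S) (x : X' ⟶ X) (h : X' ⟶ Y), (x ≫ g) * (h ≫ i) = (h ≫ i) * (x ≫ g))
    key (fun X' x h => by
      rw [show x ≫ η[G] = (1 : X' ⟶ G) by rw [Hom.one_def, toUnit_unique x (toUnit _)], _root_.one_mul, _root_.mul_one])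
    (fun a b ha hb X' x h => by rw [MonObj.comp_mul]; exact (Commute.mul_left (ha X' x h) (hb X' x h)).eq)
    (fun a ha X' x h => by rw [GrpObj.comp_inv]; exact (Commute.inv_left (ha X' x h)).eq)
  exact ⟨Z, str, j, ⟨hmon, inferInstance, key⟩, hjc, hjf⟩

/-- The normalizer of an essentially free closed subgroup of a group. -/
theorem exists_normalizer_essFree (hY : SGA3x.IsEssentiallyFree Y.hom) (i : Y ⟶ G) [IsClosedImmersion i.left]
    [LocallyOfFinitePresentation i.left] :
    ∃ (N : Over S) (_ : GrpObj N) (j : N ⟶ G), Red.IsNormalizerOf i j ∧ IsClosedImmersion j.left ∧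
      LocallyOfFinitePresentation j.left := by
  obtain ⟨T, t, ht, htf, hT⟩ := exists_transporter_closed hY i i
  haveI := ht
  haveI := htf
  let N := pullback t (t ≫ ι[G])
  let j : N ⟶ G := pullback.fst t (t ≫ ι[G]) ≫ t
  have hsq : IsPullback (pullback.fst t (t ≫ ι[G])).left (pullback.snd t (t ≫ ι[G])).left t.left (t ≫ ι[G]).left :=
    (IsPullback.of_hasPullback t (t ≫ ι[G])).map (Over.forget S)
  haveI : IsIso ι[G].left := inferInstanceAs (IsIso ((Over.forget S).map ι[G]))
  haveI : IsClosedImmersion (t ≫ ι[G]).left := by rw [Over.comp_left]; infer_instance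
  haveI : LocallyOfFinitePresentation (t ≫ ι[G]).left := by rw [Over.comp_left]; infer_instance
  haveI : IsClosedImmersion (pullback.fst t (t ≫ ι[G])).left :=
    MorphismProperty.of_isPullback hsq.flip ‹IsClosedImmersion (t ≫ ι[G]).left›
  haveI : LocallyOfFinitePresentation (pullback.fst t (t ≫ ι[G])).left :=
    MorphismProperty.of_isPullback hsq.flip ‹LocallyOfFinitePresentation (t ≫ ι[G]).left›
  haveI hjc : IsClosedImmersion j.left := by rw [show j.left = _ ≫ _ from Over.comp_left _ _ _ _ _]; infer_instance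
  haveI hjf : LocallyOfFinitePresentation j.left := by
    rw [show j.left = _ ≫ _ from Over.comp_left _ _ _ _ _]; infer_instance
  haveI : Mono j := (Over.forget _).mono_of_mono_map (inferInstanceAs (Mono j.left))
  let Q : ∀ {X : Over S}, (X ⟶ G) → Prop := fun {X} g => ∀ (X' : Over S) (x : X' ⟶ X) (h : X' ⟶ Y),
      (∃ h' : X' ⟶ Y, (x ≫ g) * (h ≫ i) * (x ≫ g)⁻¹ = h' ≫ i) ∧
      (∃ h' : X' ⟶ Y, (x ≫ g)⁻¹ * (h ≫ i) * (x ≫ g) = h' ≫ i)
  have key : ∀ (X : Over S) (g : X ⟶ G), (∃ z : X ⟶ N, z ≫ j = g) ↔ Q g := by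
    intro X g
    have h0 : (∃ z : X ⟶ N, z ≫ j = g) ↔ (∃ a, a ≫ t = g) ∧ ∃ b, b ≫ t = g⁻¹ := by
      constructor
      · rintro ⟨z, rfl⟩
        refine ⟨⟨z ≫ pullback.fst _ _, Category.assoc _ _ _⟩, ⟨z ≫ pullback.snd _ _, ?_⟩⟩
        have h1 : pullback.snd t (t ≫ ι[G]) ≫ t = (pullback.fst t (t ≫ ι[G]) ≫ t)⁻¹ := by
          rw [pullback.condition, ← GrpObj.comp_inv, ← GrpObj.comp_inv, GrpObj.inv_eq_inv, _root_.inv_inv,
            Category.comp_id]
        rw [Category.assoc, h1, GrpObj.comp_inv]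
      · rintro ⟨⟨a, ha⟩, ⟨b, hb⟩⟩
        refine ⟨pullback.lift a b ?_, ?_⟩
        · rw [ha, ← Category.assoc, hb, GrpObj.inv_eq_inv, GrpObj.comp_inv, Category.comp_id, _root_.inv_inv]
        · rw [show j = _ ≫ t from rfl, pullback.lift_fst_assoc, ha]
    rw [h0, hT, hT]
    constructor
    · rintro ⟨h1, h2⟩ X' x h
      refine ⟨h1 X' x h, ?_⟩
      obtain ⟨h', hh'⟩ := h2 X' x h
      exact ⟨h', by simpa [GrpObj.comp_inv] using hh'⟩
    · intro hq
      refine ⟨fun X' x h => (hq X' x h).1, fun X' x h => ?_⟩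
      obtain ⟨h', hh'⟩ := (hq X' x h).2
      exact ⟨h', by simpa [GrpObj.comp_inv] using hh'⟩
  obtain ⟨str, hmon⟩ := InfNbhd.exists_grpObj_of_key G j Q key
    (fun X' x h => by
      rw [show x ≫ η[G] = (1 : X' ⟶ G) by rw [Hom.one_def, toUnit_unique x (toUnit _)]]
      exact ⟨⟨h, by simp⟩, ⟨h, by simp⟩⟩)
    (fun a b ha hb X' x h => by
      refine ⟨?_, ?_⟩
      · obtain ⟨h1, e1⟩ := (hb X' x h).1
        obtain ⟨h2, e2⟩ := (ha X' x h1).1
        refine ⟨h2, ?_⟩
        rw [← e2, ← e1, MonObj.comp_mul]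
        group
      · obtain ⟨h1, e1⟩ := (ha X' x h).2
        obtain ⟨h2, e2⟩ := (hb X' x h1).2
        refine ⟨h2, ?_⟩
        rw [← e2, ← e1, MonObj.comp_mul]
        group)
    (fun a ha X' x h => by
      rw [GrpObj.comp_inv, _root_.inv_inv]
      exact ⟨(ha X' x h).2, (ha X' x h).1⟩)
  exact ⟨N, str, j, ⟨hmon, inferInstance, key⟩, hjc, hjf⟩

end universal

section generic

variable {S : Scheme.{u}} [IsIntegral S]

/-- A monomorphism of groups of finite presentation is a closed immersion over a non-empty open. -/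
theorem exists_open_isClosedImmersion_grp (G H : Over S) [GrpObj G] [GrpObj H]
    [LocallyOfFinitePresentation G.hom] [QuasiCompact G.hom] [QuasiSeparated G.hom]
    [LocallyOfFinitePresentation H.hom] [QuasiCompact H.hom]
    (i : H ⟶ G) [IsMonHom i] [Mono i] [QuasiCompact i.left] (W₀ : S.Opens) (hW₀ : (W₀ : Set S).Nonempty) :
    ∃ W : S.Opens, W ≤ W₀ ∧ (W : Set S).Nonempty ∧
      ∀ U : S.Opens, U ≤ W → IsClosedImmersion ((Over.pullback U.ι).map i).left := by
  haveI : Mono i.left := inferInstanceAs (Mono ((Over.forget S).map i))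
  haveI : LocallyOfFiniteType (i.left ≫ G.hom) := by rw [Over.w i]; infer_instance
  haveI : LocallyOfFiniteType i.left := locallyOfFiniteType_of_comp i.left G.hom
  have hsq : ∀ {T : Scheme.{u}} (b : T ⟶ S), IsPullback (pullback.fst H.hom b) ((Over.pullback b).map i).left i.left
      (pullback.fst G.hom b) := fun b =>
    IsPullback.of_bot (v₁₁ := ((Over.pullback b).map i).left) (v₂₁ := pullback.snd G.hom b)
      (h₁₁ := pullback.fst H.hom b) (v₁₂ := i.left) (v₂₂ := G.hom) (h₂₁ := pullback.fst G.hom b) (h₃₁ := b)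
      (by
        rw [show ((Over.pullback b).map i).left ≫ pullback.snd G.hom b = pullback.snd H.hom b from
          pullback.lift_snd _ _ _, Over.w i]
        exact IsPullback.of_hasPullback H.hom b)
      (pullback.lift_fst _ _ _).symm (IsPullback.of_hasPullback G.hom b)
  have hη : IsClosedImmersion (pullback.snd i.left (G.hom.fiberι (genericPoint S))) := by
    let b := S.fromSpecResidueField (genericPoint S)
    let k := S.residueField (genericPoint S)
    haveI : LocallyOfFiniteType (Red.bc b G).hom :=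
      MorphismProperty.pullback_snd (P := @LocallyOfFiniteType) G.hom b inferInstance
    haveI : LocallyOfFiniteType (Red.bc b H).hom :=
      MorphismProperty.pullback_snd (P := @LocallyOfFiniteType) H.hom b inferInstance
    haveI : QuasiCompact (Red.bc b H).hom := MorphismProperty.pullback_snd (P := @QuasiCompact) H.hom b inferInstance
    have hci : IsClosedImmersion ((Over.pullback b).map i).left :=
      Borel.isClosedImmersion_of_mono (k := k) (G := Red.bc b G) (H := Red.bc b H) ((Over.pullback b).map i)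
    show IsClosedImmersion (pullback.snd i.left (pullback.fst G.hom b))
    rw [← (hsq b).isoPullback_inv_snd]
    haveI := hci
    infer_instance
  obtain ⟨W, hWW, hne, hW⟩ := exists_open_isClosedImmersion i.left G.hom hη W₀ hW₀
  refine ⟨W, hWW, hne, fun U hU => ?_⟩
  haveI := hW _ (pullback.fst G.hom U.ι) fun t => hU (by
    show G.hom (pullback.fst G.hom U.ι t) ∈ U
    rw [← Scheme.Hom.comp_apply, pullback.condition, Scheme.Hom.comp_apply]
    exact (pullback.snd G.hom U.ι t).2)
  rw [← (hsq U.ι).isoPullback_hom_snd]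
  infer_instance

end generic

end Groth.Agent.Deform.GenTrans
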