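import Groth.Agent.Deform.GenSub.SpreadGeneric
import Groth.Agent.Deform.TorsionDense.Scheme
import Groth.Agent.GrpSchLib.CharZeroPts
import Groth.Agent.S0385
import Groth.Agent.S2573
import Groth.Prelude.Def_SGA3x

/-!
# Spreading out from the generic point: closed immersions, separatedness, essential freeness (VI_B 6.9)
-/

set_option autoImplicit false
set_option linter.style.haveILetI false
set_option backward.isDefEq.respectTransparency.types false

universe u

open CategoryTheory CategoryTheory.Limits MonoidalCategory CartesianMonoidalCategory MonObj GrpObj AlgebraicGeometry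
open scoped TensorProduct

namespace Groth.Agent.Deform.GenTrans

variable {S : Scheme.{u}} [IsIntegral S]

theorem eq_genericPoint_of_specializes {s : S} (h : s ⤳ genericPoint S) : s = genericPoint S :=
  Inseparable.eq (inseparable_iff_specializes_and.mpr ⟨h, (genericPoint_spec S).specializes trivial⟩)

theorem genericPoint_mem {W : S.Opens} (hW : (W : Set S).Nonempty) : genericPoint S ∈ W :=
  ((genericPoint_spec S).mem_open_set_iff W.isOpen).mpr (by simpa using hW)

/-- A quasi-compact monomorphism of finite type whose generic fibre is a closed immersion is a closed immersion over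
a non-empty open subscheme of the base. -/
theorem exists_open_isClosedImmersion {X Y : Scheme.{u}} (i : X ⟶ Y) [Mono i] [QuasiCompact i] [LocallyOfFiniteType i]
    (g : Y ⟶ S) [QuasiCompact g] [QuasiSeparated g]
    (hη : IsClosedImmersion (pullback.snd i (g.fiberι (genericPoint S)))) (W₀ : S.Opens) (hW₀ : (W₀ : Set S).Nonempty) :
    ∃ W : S.Opens, W ≤ W₀ ∧ (W : Set S).Nonempty ∧
      ∀ (T : Scheme.{u}) (p : T ⟶ Y), (∀ t, g (p t) ∈ W) → IsClosedImmersion (pullback.snd i p) := by
  obtain ⟨V, hV, hηV, hVW⟩ := exists_isAffineOpen_mem_and_subset (genericPoint_mem hW₀)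
  haveI : IsAffine (V : Scheme.{u}) := hV
  haveI : QuasiCompact (g ∣_ V) := IsZariskiLocalAtTarget.restrict ‹_› V
  haveI : QuasiSeparated (g ∣_ V) := IsZariskiLocalAtTarget.restrict ‹_› V
  haveI : CompactSpace ↥(g ⁻¹ᵁ V).toScheme := QuasiCompact.compactSpace_of_compactSpace (g ∣_ V)
  haveI : QuasiSeparatedSpace ↥(g ⁻¹ᵁ V).toScheme := quasiSeparatedSpace_of_quasiSeparated (g ∣_ V)
  let i' := i ∣_ (g ⁻¹ᵁ V)
  haveI : Mono i' := MorphismProperty.of_isPullback (P := MorphismProperty.monomorphisms Scheme)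
    (isPullback_morphismRestrict i (g ⁻¹ᵁ V)).flip (show MorphismProperty.monomorphisms Scheme i from ‹Mono i›)
  haveI : QuasiCompact i' := IsZariskiLocalAtTarget.restrict ‹_› _
  haveI : LocallyOfFiniteType i' := IsZariskiLocalAtTarget.restrict ‹_› _
  haveI : LocallyQuasiFinite i' := inferInstance
  obtain ⟨T₁, j, π, hj, hjq, hπ, hjπ⟩ := S0385.result i'
  haveI := hj
  haveI := hjq
  haveI := hπ
  -- the boundary
  let C : Set T₁ := closure (Set.range j) \ Set.range j
  have hC : IsClosed C := isClosed_closure.sdiff j.isOpenEmbedding.isOpen_range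
  let 𝓙 : T₁.IdealSheafData := Scheme.IdealSheafData.vanishingIdeal ⟨C, hC⟩
  have hrC : Set.range 𝓙.subschemeι = C := by
    rw [Scheme.IdealSheafData.range_subschemeι, Scheme.IdealSheafData.coe_support_vanishingIdeal]
    simp
  let w := 𝓙.subschemeι ≫ π ≫ g ∣_ V
  haveI : QuasiCompact w := inferInstance
  have hηw : (⟨genericPoint S, hηV⟩ : V) ∉ closure (Set.range w) := by
    intro h
    obtain ⟨z₀, hz₀⟩ := GenSub.Spread.exists_specializes_of_closure_range w h
    have hz₁ : (g ∣_ V) (π (𝓙.subschemeι z₀)) = ⟨genericPoint S, hηV⟩ := Subtype.ext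
      (eq_genericPoint_of_specializes (hz₀.map V.ι.continuous))
    obtain ⟨hzcl, hzr⟩ : 𝓙.subschemeι z₀ ∈ C := hrC ▸ ⟨z₀, rfl⟩
    obtain ⟨x, hx⟩ := GenSub.Spread.exists_specializes_of_closure_range j hzcl
    -- the fibres over the generic point
    let o : g.fiber (genericPoint S) ⟶ (g ⁻¹ᵁ V).toScheme := IsOpenImmersion.lift (g ⁻¹ᵁ V).ι (g.fiberι _) (by
      rintro _ ⟨q, rfl⟩
      rw [Scheme.Opens.range_ι]
      show g (g.fiberι _ q) ∈ V
      rw [show g (g.fiberι _ q) = genericPoint S from (g.range_fiberι _ ▸ ⟨q, rfl⟩ : g.fiberι _ q ∈ g ⁻¹' {genericPoint S})]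
      exact hηV)
    have ho : o ≫ (g ⁻¹ᵁ V).ι = g.fiberι _ := IsOpenImmersion.lift_fac _ _ _
    haveI : IsPreimmersion o := by
      haveI : IsPreimmersion (o ≫ (g ⁻¹ᵁ V).ι) := by rw [ho]; infer_instance
      exact IsPreimmersion.of_comp o (g ⁻¹ᵁ V).ι
    haveI : IsClosedImmersion (pullback.snd i' o) := by
      have h1 := (IsPullback.of_hasPullback i' o).paste_horiz (isPullback_morphismRestrict i (g ⁻¹ᵁ V)).flip
      rw [ho] at h1
      rw [← h1.isoPullback_hom_snd]
      infer_instance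
    let jo : pullback i' o ⟶ pullback π o :=
      pullback.lift (pullback.fst i' o ≫ j) (pullback.snd i' o) (by rw [Category.assoc, hjπ, pullback.condition])
    haveI : IsClosedImmersion (jo ≫ pullback.snd π o) := by
      rw [pullback.lift_snd]
      infer_instance
    haveI : IsClosedImmersion jo := IsClosedImmersion.of_comp jo (pullback.snd π o)
    have hmem : ∀ t : T₁, (g ∣_ V) (π t) = ⟨genericPoint S, hηV⟩ → t ∈ Set.range (pullback.fst π o) := by
      intro t ht
      rw [Scheme.Pullback.range_fst]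
      show π t ∈ Set.range o
      obtain ⟨q, hq⟩ : (g ⁻¹ᵁ V).ι (π t) ∈ Set.range (g.fiberι (genericPoint S)) := by
        rw [Scheme.Hom.range_fiberι]
        show g ((g ⁻¹ᵁ V).ι (π t)) = genericPoint S
        rw [← Scheme.Hom.comp_apply, ← morphismRestrict_ι, Scheme.Hom.comp_apply, ht]
        rfl
      exact ⟨q, (g ⁻¹ᵁ V).ι.isOpenEmbedding.injective (by rw [← Scheme.Hom.comp_apply, ho]; exact hq)⟩
    haveI : IsPreimmersion (pullback.fst π o) := MorphismProperty.pullback_fst _ _ inferInstance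
    have hjx : (g ∣_ V) (π (j x)) = ⟨genericPoint S, hηV⟩ := Subtype.ext (eq_genericPoint_of_specializes
      (((hx.map π.continuous).map (g ∣_ V).continuous).map V.ι.continuous |>.trans
        (specializes_of_eq (congrArg Subtype.val hz₁))))
    obtain ⟨tx, htx⟩ := hmem _ hjx
    obtain ⟨tz, htz⟩ := hmem _ hz₁
    rw [← htx, ← htz] at hx
    have hspec := (pullback.fst π o).isEmbedding.isInducing.specializes_iff.mp hx
    obtain ⟨qx, hqx⟩ : π (j x) ∈ Set.range o := by
      have : j x ∈ Set.range (pullback.fst π o) := ⟨tx, htx⟩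
      rw [Scheme.Pullback.range_fst] at this
      exact this
    have hix : i' x = o qx := by rw [hqx, ← Scheme.Hom.comp_apply, hjπ]
    obtain ⟨px, hpx, -⟩ := Scheme.Pullback.exists_preimage_pullback x qx hix
    have htx' : jo px = tx := (pullback.fst π o).isEmbedding.injective (by
      rw [← Scheme.Hom.comp_apply, pullback.lift_fst, Scheme.Hom.comp_apply, hpx, htx])
    have : tz ∈ Set.range jo :=
      hspec.mem_closed jo.isClosedEmbedding.isClosed_range ⟨px, htx'⟩
    obtain ⟨pz, hpz⟩ := this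
    refine hzr ⟨pullback.fst i' o pz, ?_⟩
    rw [← htz, ← hpz, ← Scheme.Hom.comp_apply, ← Scheme.Hom.comp_apply, pullback.lift_fst]
  let W' : (V : Scheme.{u}).Opens := ⟨(closure (Set.range w))ᶜ, isClosed_closure.isOpen_compl⟩
  have hWV : V.ι ''ᵁ W' ≤ V := by
    rintro _ ⟨v, -, rfl⟩
    exact v.2
  refine ⟨V.ι ''ᵁ W', hWV.trans hVW, ⟨genericPoint S, ⟨_, hηw, rfl⟩⟩, fun T p hp => ?_⟩
  let p' : T ⟶ (g ⁻¹ᵁ V).toScheme := IsOpenImmersion.lift (g ⁻¹ᵁ V).ι p (by
    rintro _ ⟨t, rfl⟩
    rw [Scheme.Opens.range_ι]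
    exact hWV (hp t))
  have hp' : p' ≫ (g ⁻¹ᵁ V).ι = p := IsOpenImmersion.lift_fac _ _ _
  have h1 := (IsPullback.of_hasPullback i' p').paste_horiz (isPullback_morphismRestrict i (g ⁻¹ᵁ V)).flip
  rw [hp'] at h1
  rw [← h1.isoPullback_inv_snd]
  suffices IsClosedImmersion (pullback.snd i' p') from inferInstance
  let jp : pullback i' p' ⟶ pullback π p' :=
    pullback.lift (pullback.fst i' p' ≫ j) (pullback.snd i' p') (by rw [Category.assoc, hjπ, pullback.condition])
  have hsq : IsPullback jp (pullback.fst i' p') (pullback.fst π p') j := by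
    refine IsPullback.of_bot (v₂₁ := pullback.snd π p') (v₂₂ := π) (h₃₁ := p') (v₁₁ := jp)
      (h₁₁ := pullback.fst i' p') (v₁₂ := j) (h₂₁ := pullback.fst π p') ?_ (pullback.lift_fst _ _ _).symm
      (IsPullback.of_hasPullback π p') |>.flip
    rw [pullback.lift_snd, hjπ]
    exact IsPullback.of_hasPullback i' p'
  haveI : IsOpenImmersion jp := MorphismProperty.of_isPullback hsq.flip hj
  have hrange : Set.range jp = pullback.fst π p' ⁻¹' closure (Set.range j) := by
    refine subset_antisymm ?_ fun t ht => ?_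
    · rintro _ ⟨q, rfl⟩
      exact subset_closure ⟨pullback.fst i' p' q, by
        rw [← Scheme.Hom.comp_apply, ← Scheme.Hom.comp_apply, pullback.lift_fst]⟩
    · by_cases h : pullback.fst π p' t ∈ Set.range j
      · obtain ⟨x, hx⟩ := h
        obtain ⟨q, hq, -⟩ := Scheme.Pullback.exists_preimage_pullback (f := pullback.fst π p') (g := j) t x hx.symm
        exact ⟨hsq.isoPullback.inv q, by rw [← Scheme.Hom.comp_apply, hsq.isoPullback_inv_fst, hq]⟩
      · exfalso
        obtain ⟨z, hz⟩ : pullback.fst π p' t ∈ Set.range 𝓙.subschemeι := hrC ▸ ⟨ht, h⟩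
        obtain ⟨v, hv, hvt⟩ := hp (pullback.snd π p' t)
        refine hv (subset_closure ⟨z, V.ι.isOpenEmbedding.injective ?_⟩)
        refine Eq.trans ?_ hvt.symm
        have e1 : p' (pullback.snd π p' t) = π (𝓙.subschemeι z) := by
          rw [← Scheme.Hom.comp_apply, ← pullback.condition, Scheme.Hom.comp_apply, hz]
        rw [← hp', Scheme.Hom.comp_apply p', e1, ← Scheme.Hom.comp_apply (g ⁻¹ᵁ V).ι, ← morphismRestrict_ι,
          Scheme.Hom.comp_apply (g ∣_ V)]
        rfl
  haveI : IsClosedImmersion jp := IsClosedImmersion.of_isPreimmersion jp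
    (by rw [hrange]; exact isClosed_closure.preimage (pullback.fst π p').continuous)
  haveI : IsFinite (jp ≫ pullback.snd π p') := inferInstance
  rw [pullback.lift_snd] at this
  exact (IsClosedImmersion.iff_isFinite_and_mono _).mpr ⟨this, inferInstance⟩

/-- A group of finite presentation is separated over a non-empty open. -/
theorem exists_open_isSeparated (G : Over S) [GrpObj G] [LocallyOfFinitePresentation G.hom] [QuasiCompact G.hom]
    [QuasiSeparated G.hom] (W₀ : S.Opens) (hW₀ : (W₀ : Set S).Nonempty) :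
    ∃ W : S.Opens, W ≤ W₀ ∧ (W : Set S).Nonempty ∧
      ∀ U : S.Opens, U ≤ W → IsSeparated (Red.bc U.ι G).hom := by
  let e : S ⟶ G.left := η[G].left
  have he : e ≫ G.hom = 𝟙 S := Over.w η[G]
  haveI : IsSplitMono e := IsSplitMono.mk' ⟨G.hom, he⟩
  haveI : IsImmersion (e ≫ G.hom) := by rw [he]; infer_instance
  haveI : IsImmersion e := IsImmersion.of_comp e G.hom
  haveI : LocallyOfFiniteType e := inferInstance
  haveI : QuasiCompact (e ≫ G.hom) := by rw [he]; infer_instance
  haveI : QuasiCompact e := QuasiCompact.of_comp e G.hom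
  have hη : IsClosedImmersion (pullback.snd e (G.hom.fiberι (genericPoint S))) := by
    let b := S.fromSpecResidueField (genericPoint S)
    haveI hsep : IsSeparated (pullback.snd G.hom b) :=
      GrpSchLib.CharZeroPts.isSeparated_grp (k := S.residueField (genericPoint S)) (Red.bc b G)
    have h1 := ((IsPullback.of_hasPullback e (G.hom.fiberι (genericPoint S))).flip.paste_horiz
      (IsPullback.of_hasPullback G.hom b).flip)
    rw [he] at h1
    haveI hiso : IsIso (pullback.snd e (G.hom.fiberι (genericPoint S)) ≫ pullback.snd G.hom b) :=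
      MorphismProperty.of_isPullback (P := MorphismProperty.isomorphisms Scheme) h1.flip
        (show MorphismProperty.isomorphisms Scheme (𝟙 S) from inferInstanceAs (IsIso (𝟙 S)))
    exact @IsClosedImmersion.of_comp _ _ _ _ (pullback.snd G.hom b) inferInstance hsep
  obtain ⟨W, hWW, hne, hW⟩ := exists_open_isClosedImmersion e G.hom hη W₀ hW₀
  refine ⟨W, hWW, hne, fun U hU => (isSeparated_iff _).mpr
    ((GrpSchLib.diagonal_iff_unit (G := Red.bc U.ι G) @IsClosedImmersion).mpr ?_)⟩
  have h2 : η[Red.bc U.ι G] = Functor.LaxMonoidal.ε (Over.pullback U.ι) ≫ (Over.pullback U.ι).map η[G] := rfl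
  let m := ((Over.pullback U.ι).map η[G]).left
  haveI : IsIso (Functor.LaxMonoidal.ε (Over.pullback U.ι)).left :=
    inferInstanceAs (IsIso ((Over.forget _).map (Functor.LaxMonoidal.ε (Over.pullback U.ι))))
  rw [h2, Over.comp_left]
  haveI : IsClosedImmersion m := by
    have hsq : IsPullback m (pullback.fst (𝟙_ (Over S)).hom U.ι) (pullback.fst G.hom U.ι) e :=
      (IsPullback.of_bot (v₁₁ := m) (v₂₁ := pullback.snd G.hom U.ι) (h₁₁ := pullback.fst (𝟙_ (Over S)).hom U.ι)
        (v₁₂ := e) (v₂₂ := G.hom) (h₂₁ := pullback.fst G.hom U.ι) (h₃₁ := U.ι)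
        (by
          rw [show m ≫ pullback.snd G.hom U.ι = pullback.snd _ U.ι from pullback.lift_snd _ _ _, he]
          exact IsPullback.of_hasPullback (𝟙_ (Over S)).hom U.ι)
        (pullback.lift_fst _ _ _).symm (IsPullback.of_hasPullback G.hom U.ι)).flip
    haveI := hW _ (pullback.fst G.hom U.ι) fun t => hU (by
      show G.hom (pullback.fst G.hom U.ι t) ∈ U
      rw [← Scheme.Hom.comp_apply, pullback.condition, Scheme.Hom.comp_apply]
      exact (pullback.snd G.hom U.ι t).2)
    rw [← hsq.flip.isoPullback_hom_snd]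
    infer_instance
  infer_instance

section essFree

theorem projective_of_iso {R R' M M' : CommRingCat.{u}} (a : R ≅ R') (b : M ≅ M') (φ : R ⟶ M) (φ' : R' ⟶ M')
    (hc : φ ≫ b.hom = a.hom ≫ φ') (h : @Module.Projective R _ M _ φ.hom.toAlgebra.toModule) :
    @Module.Projective R' _ M' _ φ'.hom.toAlgebra.toModule := by
  let := φ.hom.toAlgebra
  let := φ'.hom.toAlgebra
  haveI := h
  let σ : R ≃+* R' := a.commRingCatIsoToRingEquiv
  letI := RingHomInvPair.of_ringEquiv σ
  letI : RingHomInvPair (σ.symm : R' →+* R) (σ : R →+* R') := RingHomInvPair.symm _ _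
  let e : M ≃ₛₗ[(σ : R →+* R')] M' :=
    { b.commRingCatIsoToRingEquiv.toAddEquiv with
      map_smul' := fun r m => by
        show b.hom (φ r * m) = φ' (a.hom r) * b.hom m
        rw [map_mul]
        congr 1
        exact ConcreteCategory.congr_hom hc r }
  exact Module.Projective.of_equiv e

/-- A scheme covered by spectra of projective algebras over an affine base is essentially free. -/
theorem isEssentiallyFree_of_charts {X B : Scheme.{u}} (f : X ⟶ B) [IsAffine B] {R : CommRingCat.{u}} (e : Spec R ≅ B)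
    {κ : Type u} (P : κ → CommRingCat.{u}) (v : ∀ j, Spec (P j) ⟶ X) [∀ j, IsOpenImmersion (v j)]
    (hcov : ∀ x, ∃ j y, v j y = x) (φ : ∀ j, R ⟶ P j) (hφ : ∀ j, v j ≫ f = Spec.map (φ j) ≫ e.hom)
    (hproj : ∀ j, @Module.Projective R _ (P j) _ (φ j).hom.toAlgebra.toModule) : SGA3x.IsEssentiallyFree f := by
  intro s
  let U : B.Opens := ⊤
  let g : Spec R ⟶ (U : Scheme.{u}) := e.hom ≫ B.topIso.inv
  have hg : g ≫ U.ι = e.hom := by
    rw [Category.assoc]
    exact (congrArg (e.hom ≫ ·) B.topIso.inv_hom_id).trans (Category.comp_id _)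
  refine ⟨U, trivial, isAffineOpen_top _, Spec R, inferInstance, g, inferInstance, inferInstance, fun x => ?_⟩
  haveI : IsIso (g ≫ U.ι) := by rw [hg]; infer_instance
  obtain ⟨j, y, hy⟩ := hcov (pullback.fst f (g ≫ U.ι) x)
  let w : Spec (P j) ⟶ pullback f (g ≫ U.ι) := v j ≫ inv (pullback.fst f (g ≫ U.ι))
  refine ⟨w.opensRange, ⟨y, ?_⟩, isAffineOpen_opensRange w, ?_⟩
  · rw [Scheme.Hom.comp_apply, hy, ← Scheme.Hom.comp_apply, IsIso.hom_inv_id]
    rfl
  let E := w.isoOpensRange
  have hE : E.hom ≫ w.opensRange.ι ≫ pullback.snd f (g ≫ U.ι) = Spec.map (φ j) := by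
    rw [← Category.assoc, w.isoOpensRange_hom_ι, ← cancel_mono e.hom]
    conv_lhs => rw [← hg, Category.assoc]
    rw [show w = v j ≫ inv (pullback.fst f (g ≫ U.ι)) from rfl, Category.assoc, ← pullback.condition,
      IsIso.inv_hom_id_assoc, hφ]
  haveI : IsIso E.hom.appTop := inferInstanceAs (IsIso (Scheme.Γ.map E.hom.op))
  refine projective_of_iso (Scheme.ΓSpecIso R).symm
    ((Scheme.ΓSpecIso (P j)).symm ≪≫ (asIso E.hom.appTop).symm) (φ j) _ ?_ (hproj j)
  rw [Iso.trans_hom, Iso.symm_hom, Iso.symm_hom, ← Category.assoc, Iso.comp_inv_eq, Category.assoc, asIso_hom,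
    ← Scheme.Hom.comp_appTop, hE]
  exact Scheme.ΓSpecIso_inv_naturality (φ j)

theorem flat_of_isField {K M : Type u} [CommRing K] (h : IsField K) [AddCommGroup M] [Module K M] : Module.Flat K M := by
  letI := h.toField
  infer_instance

/-- Generic freeness: after one localisation a finitely presented algebra over a domain is projective. -/
theorem exists_projective_away {A B : Type u} [CommRing A] [IsDomain A] [CommRing B] [Algebra A B]
    [Algebra.FinitePresentation A B] :
    ∃ t : A, t ≠ 0 ∧ ∀ (A' : Type u) [CommRing A'] [Algebra A A'], IsUnit (algebraMap A A' t) →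
      Module.Projective A' (A' ⊗[A] B) := by
  have hp : minimalPrimes A = {⊥} := IsDomain.minimalPrimes_eq_singleton_bot A
  haveI : Module.FinitePresentation B B := inferInstance
  have hfield : IsField (Localization.AtPrime (⊥ : Ideal A)) := by
    rw [IsLocalRing.isField_iff_maximalIdeal_eq, ← Localization.AtPrime.map_eq_maximalIdeal, Ideal.map_bot]
  obtain ⟨t, ht, hfree⟩ := S2573.result (A := A) (B := B) (⊥ : Ideal A) hp B (flat_of_isField hfield)
  refine ⟨t, fun h => ht (h ▸ Submodule.zero_mem _), fun A' _ _ hu => ?_⟩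
  let At := Localization.Away t
  letI : Algebra At A' := (IsLocalization.Away.lift (S := At) t hu).toAlgebra
  haveI : IsScalarTower A At A' := .of_algebraMap_eq fun a => (IsLocalization.Away.lift_eq (S := At) t hu a).symm
  haveI := hfree
  haveI : Module.Free At (At ⊗[A] B) := Module.Free.of_equiv
    ((IsLocalizedModule.isBaseChange (Submonoid.powers t) At
      (LocalizedModule.mkLinearMap (Submonoid.powers t) B)).equiv).symm
  exact Module.Projective.of_equiv (TensorProduct.AlgebraTensorModule.cancelBaseChange A At A' A' B)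

/-- A scheme of finite presentation is essentially free over a non-empty affine open. -/
theorem exists_open_essFree (Y : Over S) [LocallyOfFinitePresentation Y.hom] [QuasiCompact Y.hom]
    (W₀ : S.Opens) (hW₀ : (W₀ : Set S).Nonempty) :
    ∃ U : S.Opens, U ≤ W₀ ∧ (U : Set S).Nonempty ∧ IsAffineOpen U ∧
      SGA3x.IsEssentiallyFree (Red.bc U.ι Y).hom := by
  obtain ⟨V, hV, hηV, hVW⟩ := exists_isAffineOpen_mem_and_subset (genericPoint_mem hW₀)
  haveI : Nonempty ↥(V : Scheme.{u}) := ⟨⟨_, hηV⟩⟩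
  haveI : Nonempty ↥V := ⟨⟨_, hηV⟩⟩
  obtain ⟨s, hs⟩ := (Y.hom.isCompact_preimage hV.isCompact).elim_finite_subcover
    (fun W : {W : Y.left.affineOpens // W.1 ≤ Y.hom ⁻¹ᵁ V} => (W.1.1 : Set Y.left)) (fun W => W.1.1.2) (fun x hx => by
      obtain ⟨W, hW, hxW, hWle⟩ := exists_isAffineOpen_mem_and_subset (show x ∈ Y.hom ⁻¹ᵁ V from hx)
      exact Set.mem_iUnion.mpr ⟨⟨⟨W, hW⟩, hWle⟩, hxW⟩)
  let alg : ∀ W : {W : Y.left.affineOpens // W.1 ≤ Y.hom ⁻¹ᵁ V}, Algebra Γ(S, V) Γ(Y.left, W.1.1) :=
    fun W => (Y.hom.appLE V W.1.1 W.2).hom.toAlgebra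
  letI := alg
  have hfp : ∀ W : {W : Y.left.affineOpens // W.1 ≤ Y.hom ⁻¹ᵁ V}, Algebra.FinitePresentation Γ(S, V) Γ(Y.left, W.1.1) :=
    fun W => HasRingHomProperty.appLE @LocallyOfFinitePresentation Y.hom inferInstance ⟨V, hV⟩ W.1 W.2
  haveI := hfp
  choose t ht hproj using fun W : {W : Y.left.affineOpens // W.1 ≤ Y.hom ⁻¹ᵁ V} =>
    exists_projective_away (A := Γ(S, V)) (B := Γ(Y.left, W.1.1))
  let t₀ : Γ(S, V) := ∏ W ∈ s, t W
  let U := S.basicOpen t₀
  have hU : IsAffineOpen U := hV.basicOpen t₀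
  have hne : (U : Set S).Nonempty := by
    rw [Set.nonempty_iff_ne_empty]
    intro h
    exact Finset.prod_ne_zero_iff.mpr (fun W _ => ht W) ((basicOpen_eq_bot_iff t₀).mp (TopologicalSpace.Opens.coe_eq_empty.mp h))
  letI : Algebra Γ(S, V) Γ(S, U) := (S.presheaf.map (homOfLE (S.basicOpen_le t₀)).op).hom.toAlgebra
  have hunit : ∀ W ∈ s, IsUnit (algebraMap Γ(S, V) Γ(S, U) (t W)) := fun W hW => by
    have h1 : IsUnit (algebraMap Γ(S, V) Γ(S, U) t₀) :=
      RingedSpace.isUnit_res_basicOpen _ t₀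
    exact isUnit_of_dvd_unit (map_dvd _ (Finset.dvd_prod_of_mem _ hW)) h1
  haveI : IsAffine (U : Scheme.{u}) := hU
  let e : Spec Γ(S, U) ≅ (U : Scheme.{u}) := hU.isoSpec.symm
  have he : e.hom ≫ U.ι = Spec.map (CommRingCat.ofHom (algebraMap Γ(S, V) Γ(S, U))) ≫ hV.fromSpec :=
    (hU.isoSpec_inv_ι).trans (hV.map_fromSpec hU (homOfLE (S.basicOpen_le t₀)).op).symm
  have hex := fun W : ↥s => TorsionDense.exists_piece Y.hom U.ι hV W.1.1.2 W.1.2 (E := Γ(S, U)) e.hom rfl he
  choose v hv hv1 hv2 hvr using hex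
  haveI := hv
  refine ⟨U, (S.basicOpen_le t₀).trans hVW, hne, hU, isEssentiallyFree_of_charts _ e
    (fun W : ↥s => CommRingCat.of (Γ(S, U) ⊗[Γ(S, V)] Γ(Y.left, W.1.1.1))) v (fun x => ?_)
    (fun W => CommRingCat.ofHom Algebra.TensorProduct.includeLeftRingHom) hv2 fun W => ?_⟩
  have hx : pullback.fst Y.hom U.ι x ∈ Y.hom ⁻¹' (V : Set S) := by
    show Y.hom (pullback.fst Y.hom U.ι x) ∈ V
    rw [← Scheme.Hom.comp_apply, pullback.condition, Scheme.Hom.comp_apply]
    exact S.basicOpen_le t₀ (pullback.snd Y.hom U.ι x).2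
  obtain ⟨W, hWs, hxW⟩ := Set.mem_iUnion₂.mp (hs hx)
  refine ⟨⟨W, hWs⟩, ?_⟩
  have : x ∈ Set.range (v ⟨W, hWs⟩) := by
    rw [hvr]
    exact ⟨hxW, Set.range_eq_univ.mpr e.hom.surjective ▸ trivial⟩
  exact this
  · have := hproj W.1 _ (hunit W.1 W.2)
    convert this using 2
    · rfl
    refine Module.ext' (R := Γ(S, U)) (M := Γ(S, U) ⊗[Γ(S, V)] Γ(Y.left, W.1.1.1)) _ _ fun r x => ?_
    have key : ∀ y : Γ(S, U) ⊗[Γ(S, V)] Γ(Y.left, W.1.1.1), (r ⊗ₜ[Γ(S, V)] (1 : Γ(Y.left, W.1.1.1))) * y = r • y := by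
      intro y
      induction y using TensorProduct.induction_on with
      | zero => simp
      | tmul a b => rw [Algebra.TensorProduct.tmul_mul_tmul, _root_.one_mul, TensorProduct.smul_tmul', smul_eq_mul]
      | add y z hy hz => rw [_root_.mul_add, hy, hz, smul_add]
    exact key x

end essFree

end Groth.Agent.Deform.GenTrans
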